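import Groth.Prelude.Def_CohProp
import Groth.Prelude.Def_EtOpen
import Groth.Agent.EtFound.LocConst
import Groth.Agent.EtFound.ConstStalk
import Groth.Agent.EtFound.Basic

/-! finite locally constant sheaves of sets: sections, gluing, constancy via geometric points -/

set_option autoImplicit false

universe u

open CategoryTheory CategoryTheory.Limits AlgebraicGeometry Opposite

namespace Groth.Agent.FLCSet

set_option backward.isDefEq.respectTransparency false
set_option backward.isDefEq.respectTransparency.types false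

variable {X : Scheme.{u}} {F : EtDesc.Sh X}

/-- A jointly surjective family of the small étale site. -/
theorem covering_mem {W : X.Etale} {ι : Type*} (Z : ι → X.Etale) (g : ∀ i, Z i ⟶ W)
    (hcov : ∀ x : W.left, ∃ (i : ι) (z : (Z i).left), (g i).left.base z = x) :
    Sieve.ofArrows Z g ∈ X.smallEtaleTopology W :=
  (EtFound.mem_topology_iff _).2 fun x => by
    obtain ⟨i, z, hz⟩ := hcov x
    exact ⟨Z i, g i, z, Sieve.ofArrows_mk _ _ i, hz⟩

/-- Sheaves of sets are sheaves for jointly surjective families. -/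
theorem isSheafFor_of_covers (F : EtDesc.Sh X) {W : X.Etale} {ι : Type*} (Z : ι → X.Etale)
    (g : ∀ i, Z i ⟶ W) (hcov : ∀ x : W.left, ∃ (i : ι) (z : (Z i).left), (g i).left.base z = x) :
    Presieve.IsSheafFor F.obj (Presieve.ofArrows Z g) := by
  rw [Presieve.isSheafFor_iff_generate]
  exact (isSheaf_iff_isSheaf_of_type _ _).1 F.2 _ (covering_mem Z g hcov)

theorem sections_ext {W : X.Etale} {ι : Type*} (Z : ι → X.Etale) (g : ∀ i, Z i ⟶ W)
    (hcov : ∀ x : W.left, ∃ (i : ι) (z : (Z i).left), (g i).left.base z = x) {s t : F.obj.obj (op W)}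
    (h : ∀ i, F.obj.map (g i).op s = F.obj.map (g i).op t) : s = t :=
  (isSheafFor_of_covers F Z g hcov).isSeparatedFor.ext fun _ _ hv => by
    obtain ⟨i⟩ := hv
    exact h i

theorem sections_glue {W : X.Etale} {ι : Type*} (Z : ι → X.Etale) (g : ∀ i, Z i ⟶ W)
    (hcov : ∀ x : W.left, ∃ (i : ι) (z : (Z i).left), (g i).left.base z = x)
    (s : ∀ i, F.obj.obj (op (Z i)))
    (hs : ∀ i j (V : X.Etale) (a : V ⟶ Z i) (b : V ⟶ Z j), a ≫ g i = b ≫ g j →
      F.obj.map a.op (s i) = F.obj.map b.op (s j)) :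
    ∃ t : F.obj.obj (op W), ∀ i, F.obj.map (g i).op t = s i := by
  obtain ⟨t, ht, -⟩ := (Presieve.isSheafFor_arrows_iff _ _).1 (isSheafFor_of_covers F Z g hcov) s hs
  exact ⟨t, ht⟩

/-- The fibre product over `X` in the small étale site. -/
noncomputable abbrev fibProd (V W : X.Etale) : X.Etale :=
  haveI : AlgebraicGeometry.Etale V.hom := V.prop
  haveI : AlgebraicGeometry.Etale W.hom := W.prop
  Scheme.Etale.mk (pullback.fst V.hom W.hom ≫ V.hom)

/-- The first projection. -/
noncomputable abbrev fibFst (V W : X.Etale) : fibProd V W ⟶ V :=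
  MorphismProperty.Over.homMk (pullback.fst V.hom W.hom) rfl

/-- The second projection. -/
noncomputable abbrev fibSnd (V W : X.Etale) : fibProd V W ⟶ W :=
  MorphismProperty.Over.homMk (pullback.snd V.hom W.hom) pullback.condition.symm

/-- Pairing into the fibre product. -/
noncomputable abbrev fibLift {T V W : X.Etale} (a : T ⟶ V) (b : T ⟶ W) : T ⟶ fibProd V W :=
  MorphismProperty.Over.homMk (pullback.lift a.left b.left
    ((MorphismProperty.Over.w a).trans (MorphismProperty.Over.w b).symm))
    ((Category.assoc _ _ _).symm.trans ((congrArg (· ≫ V.hom) (pullback.lift_fst _ _ _)).trans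
      (MorphismProperty.Over.w a)))

@[reassoc (attr := simp)]
theorem fibLift_fst {T V W : X.Etale} (a : T ⟶ V) (b : T ⟶ W) : fibLift a b ≫ fibFst V W = a :=
  MorphismProperty.Over.Hom.ext (pullback.lift_fst _ _ _)

@[reassoc (attr := simp)]
theorem fibLift_snd {T V W : X.Etale} (a : T ⟶ V) (b : T ⟶ W) : fibLift a b ≫ fibSnd V W = b :=
  MorphismProperty.Over.Hom.ext (pullback.lift_snd _ _ _)

theorem fib_hom_ext {T V W : X.Etale} {a b : T ⟶ fibProd V W} (h₁ : a ≫ fibFst V W = b ≫ fibFst V W)
    (h₂ : a ≫ fibSnd V W = b ≫ fibSnd V W) : a = b :=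
  MorphismProperty.Over.Hom.ext (pullback.hom_ext (congrArg (fun k => k.left) h₁)
    (congrArg (fun k => k.left) h₂))

/-- If two sections have the same germ at a point through `t`, they agree on a neighbourhood of `t`. -/
theorem exists_nhd_of_germ_eq {T : X.Etale} (t : T.left) {Ω : Type u} [Field Ω] [IsSepClosed Ω]
    (ξ : Spec (CommRingCat.of Ω) ⟶ X) (z : (Scheme.pointSmallEtale ξ).fiber.obj T)
    (hz : (z.left : Spec (CommRingCat.of Ω) ⟶ T.left).base (default : Spec (CommRingCat.of Ω)) = t)
    {s s' : F.obj.obj (op T)}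
    (h : (Scheme.pointSmallEtale ξ).toPresheafFiber T z F.obj s =
      (Scheme.pointSmallEtale ξ).toPresheafFiber T z F.obj s') :
    ∃ (V : X.Etale) (a : V ⟶ T) (v : V.left), a.left.base v = t ∧
      F.obj.map a.op s = F.obj.map a.op s' := by
  obtain ⟨V, g, v, hv, hg⟩ := ((Scheme.pointSmallEtale ξ).toPresheafFiber_eq_iff' T z _ _).1 h
  refine ⟨V, g, (v.left : Spec (CommRingCat.of Ω) ⟶ V.left).base (default : Spec (CommRingCat.of Ω)),
    ?_, hg⟩
  rw [← hz, ← hv]
  exact (Scheme.Hom.comp_apply _ _ _).symm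

theorem constBy_constSh (M : Type (u + 1)) (U : X.Etale) :
    ∃ φ : M ⟶ (CohProp.constSh X M).obj.obj (op U), EtFound.ConstBy (CohProp.constSh X M) φ :=
  ⟨(toSheafify X.smallEtaleTopology ((Functor.const X.Etaleᵒᵖ).obj M)).app (op U),
    fun _ _ _ ξ z => by
      have h := EtFound.toSheafify_const_germ_bijective ξ (Type (u + 1)) M U z
      exact h⟩

/-- Constancy in the sense of geometric points gives the isomorphism of restrictions. -/
theorem nonempty_over_iso {U : X.Etale} {M : Type (u + 1)} {φ : M ⟶ F.obj.obj (op U)}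
    (h : EtFound.ConstBy F φ) : Nonempty (F.over U ≅ (CohProp.constSh X M).over U) := by
  obtain ⟨ψ, hψ⟩ := constBy_constSh (X := X) M U
  exact ⟨(EtFound.nonempty_restr_iso_const h).some ≪≫ (EtFound.nonempty_restr_iso_const hψ).some.symm⟩

/-- Conversely, an isomorphism of restrictions gives constancy at geometric points. -/
theorem exists_constBy {U : X.Etale} {M : Type (u + 1)}
    (e : F.over U ≅ (CohProp.constSh X M).over U) : ∃ φ : M ⟶ F.obj.obj (op U), EtFound.ConstBy F φ := by
  obtain ⟨ψ, hψ⟩ := constBy_constSh (X := X) M U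
  exact EtFound.exists_constBy (e ≪≫ (EtFound.nonempty_restr_iso_const hψ).some)

end Groth.Agent.FLCSet
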