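import Groth.Agent.FLCSet.Basic
import Groth.Agent.EtFound.Germ
import Groth.Agent.SGA1Q.SigmaFinite

/-! a finite locally constant sheaf is represented by a finite étale scheme over each trivialisation -/

set_option autoImplicit false

universe u

open CategoryTheory CategoryTheory.Limits AlgebraicGeometry Opposite

namespace Groth.Agent.FLCSet

set_option backward.isDefEq.respectTransparency false
set_option backward.isDefEq.respectTransparency.types false

variable {X : Scheme.{u}} {F : EtDesc.Sh X}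

/-- Over a trivialising object, a finite locally constant sheaf of sets is a finite étale scheme with a
universal section. -/
theorem exists_chart {U : X.Etale} {M : Type (u + 1)} [Finite M] {φ : M ⟶ F.obj.obj (op U)}
    (hφ : EtFound.ConstBy F φ) :
    ∃ (P : X.Etale) (h : P ⟶ U) (σ : F.obj.obj (op P)), IsFinite h.left ∧
      ∀ (T : X.Etale) (g : T ⟶ U),
        Function.Bijective fun v : {v : T ⟶ P // v ≫ h = g} => F.obj.map v.1.op σ := by
  classical
  let ι : Type u := ULift.{u} (Fin (Nat.card M))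
  let e : ι ≃ M := Equiv.ulift.trans (Finite.equivFin M).symm
  haveI : Etale U.hom := U.prop
  let d : (∐ fun _ : ι => U.left) ⟶ X := Sigma.desc (f := fun _ : ι => U.left) fun _ => U.hom
  have : Etale d := IsZariskiLocalAtSource.sigmaDesc fun _ => inferInstance
  let P : X.Etale := Scheme.Etale.mk d
  let inj : ι → (U ⟶ P) := fun m =>
    MorphismProperty.Over.homMk (Sigma.ι (fun _ : ι => U.left) m) (Sigma.ι_desc _ _) trivial
  let h : P ⟶ U := MorphismProperty.Over.homMk (Sigma.desc fun _ : ι => 𝟙 U.left)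
    (Sigma.hom_ext _ _ fun m => by
      rw [← Category.assoc]
      exact ((congrArg (· ≫ U.hom) (Sigma.ι_desc _ m)).trans (Category.id_comp _)).trans
        (Sigma.ι_desc (fun _ : ι => U.hom) m).symm) trivial
  have hinj : ∀ m, inj m ≫ h = 𝟙 U := fun m =>
    MorphismProperty.Over.Hom.ext (Sigma.ι_desc (fun _ : ι => 𝟙 U.left) m)
  have hfin : IsFinite h.left := SGA1Q.isFinite_sigmaDesc _ fun _ => inferInstance
  have hcovP : ∀ x : P.left, ∃ (m : ι) (z : U.left), (inj m).left.base z = x := fun x =>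
    (sigmaOpenCover fun _ : ι => U.left).exists_eq x
  -- the universal section
  obtain ⟨σ, hσ⟩ : ∃ σ : F.obj.obj (op P), ∀ m, F.obj.map (inj m).op σ = φ (e m) := by
    refine sections_glue (fun _ : ι => U) inj hcovP (fun m => φ (e m)) fun i j V a b hab => ?_
    by_cases hij : i = j
    · subst hij
      have : a = b := by
        have := congrArg (· ≫ h) hab
        simpa only [Category.assoc, hinj, Category.comp_id] using this
      rw [this]
    · haveI : IsEmpty V.left := ⟨fun v => by
        have h1 : (inj i).left.base (a.left.base v) = (inj j).left.base (b.left.base v) :=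
          (Scheme.Hom.comp_apply _ _ _).symm.trans
            ((congrArg (fun k : V ⟶ P => k.left.base v) hab).trans (Scheme.Hom.comp_apply _ _ _))
        exact hij (congrArg Sigma.fst ((sigmaι_eq_iff _ _ _ _ _).mp h1))⟩
      exact sections_ext (ι := PEmpty.{1}) (fun i => i.elim) (fun i => i.elim) (fun x => isEmptyElim x)
        fun i => i.elim
  refine ⟨P, h, σ, hfin, fun T g => ?_⟩
  -- the value of a lift on a piece
  have piece : ∀ (v : T ⟶ P), v ≫ h = g → ∀ t : T.left, ∃ (m : ι) (O : T.left.Opens), t ∈ O ∧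
      EtFound.restrictEtaleHom T O ≫ v = EtFound.restrictEtaleHom T O ≫ g ≫ inj m := by
    intro v hv t
    obtain ⟨m, z, hz⟩ := hcovP (v.left.base t)
    haveI : IsOpenImmersion (inj m).left := inferInstanceAs (IsOpenImmersion (Sigma.ι (fun _ : ι => U.left) m))
    let O : T.left.Opens := v.left ⁻¹ᵁ (inj m).left.opensRange
    refine ⟨m, O, ⟨z, hz⟩, MorphismProperty.Over.Hom.ext ?_⟩
    show O.ι ≫ v.left = O.ι ≫ g.left ≫ (inj m).left
    have hr : Set.range (O.ι ≫ v.left).base ⊆ Set.range (inj m).left.base := by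
      rintro _ ⟨o, rfl⟩
      rw [Scheme.Hom.comp_apply]
      exact o.2
    have hl := IsOpenImmersion.lift_fac (inj m).left (O.ι ≫ v.left) hr
    have e1 : IsOpenImmersion.lift (inj m).left (O.ι ≫ v.left) hr = O.ι ≫ g.left := by
      have h1 : (inj m).left ≫ h.left = 𝟙 U.left := congrArg (fun k => k.left) (hinj m)
      have h2 : v.left ≫ h.left = g.left := congrArg (fun k => k.left) hv
      rw [← Category.comp_id (IsOpenImmersion.lift _ _ hr), ← h1, ← Category.assoc, hl, Category.assoc, h2]
    rw [← hl, e1, Category.assoc]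
  have point : ∀ t : T.left, ∃ (Ω : Type u) (_ : Field Ω) (_ : IsAlgClosed Ω)
      (ξ : Spec (CommRingCat.of Ω) ⟶ X) (z : (Scheme.pointSmallEtale ξ).fiber.obj T),
      (z.left : Spec (CommRingCat.of Ω) ⟶ T.left).base (default : Spec (CommRingCat.of Ω)) = t :=
    EtFound.exists_algClosed_point T
  -- germs of sections given by a chart
  have germ : ∀ (s : F.obj.obj (op T)) (m : ι) {V : X.Etale} (a : V ⟶ T) (w : V.left),
      F.obj.map a.op s = F.obj.map (a ≫ g).op (φ (e m)) →
      ∀ (Ω : Type u) [Field Ω] [IsAlgClosed Ω] (ξ : Spec (CommRingCat.of Ω) ⟶ X)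
        (z : (Scheme.pointSmallEtale ξ).fiber.obj T),
        (z.left : Spec (CommRingCat.of Ω) ⟶ T.left).base (default : Spec (CommRingCat.of Ω)) = a.left.base w →
        (Scheme.pointSmallEtale ξ).toPresheafFiber T z F.obj s =
          (φ ≫ (Scheme.pointSmallEtale ξ).toPresheafFiber U
            ((Scheme.pointSmallEtale ξ).fiber.map g z) F.obj) (e m) := by
    intro s m V a w hs Ω _ _ ξ z hz
    obtain ⟨w', hw', -⟩ := EtFound.exists_lift_point a z w hz.symm
    rw [← hw', ← (Scheme.pointSmallEtale ξ).toPresheafFiber_w_apply a w', hs,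
      (Scheme.pointSmallEtale ξ).toPresheafFiber_w_apply (a ≫ g) w', ← Functor.map_comp_apply]
    exact (ConcreteCategory.comp_apply _ _ _).symm
  have pull : ∀ (v : T ⟶ P) {V : X.Etale} (a : V ⟶ T) (m : ι), a ≫ v = a ≫ g ≫ inj m →
      F.obj.map a.op (F.obj.map v.op σ) = F.obj.map (a ≫ g).op (φ (e m)) := by
    intro v V a m he
    rw [← Functor.map_comp_apply, ← op_comp, he, ← hσ m, ← Functor.map_comp_apply, ← op_comp,
      Category.assoc]
  constructor
  · rintro ⟨v, hv⟩ ⟨v', hv'⟩ heq
    refine Subtype.ext (MorphismProperty.Over.Hom.ext (Scheme.hom_ext_of_forall _ _ fun t => ?_))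
    obtain ⟨m, O, ht, hm⟩ := piece v hv t
    obtain ⟨m', O', ht', hm'⟩ := piece v' hv' t
    obtain ⟨Ω, _, _, ξ, z, hz⟩ := point t
    have g1 := germ (F.obj.map v.op σ) m (V := EtFound.restrictEtale T O) (EtFound.restrictEtaleHom T O) ⟨t, ht⟩ (pull v _ m hm) Ω ξ z hz
    have g2 := germ (F.obj.map v'.op σ) m' (V := EtFound.restrictEtale T O') (EtFound.restrictEtaleHom T O') ⟨t, ht'⟩ (pull v' _ m' hm') Ω ξ z hz
    have hmm : m = m' := e.injective ((hφ Ω ξ _).1 (g1.symm.trans ((congrArg _ heq).trans g2)))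
    subst hmm
    refine ⟨O ⊓ O', ⟨ht, ht'⟩, ?_⟩
    have k1 : O.ι ≫ v.left = O.ι ≫ g.left ≫ (inj m).left := congrArg (fun k => k.left) hm
    have k2 : O'.ι ≫ v'.left = O'.ι ≫ g.left ≫ (inj m).left := congrArg (fun k => k.left) hm'
    rw [← Scheme.homOfLE_ι _ (inf_le_left : O ⊓ O' ≤ O), Category.assoc, k1]
    conv_rhs => rw [Scheme.homOfLE_ι, ← Scheme.homOfLE_ι _ (inf_le_right : O ⊓ O' ≤ O'), Category.assoc, k2]
    rw [← Category.assoc, ← Category.assoc (T.left.homOfLE (inf_le_right : O ⊓ O' ≤ O')),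
      Scheme.homOfLE_ι, Scheme.homOfLE_ι]
  · intro s
    let Oset : ι → Set T.left := fun m => {t | ∃ (V : X.Etale) (a : V ⟶ T) (w : V.left),
      a.left.base w = t ∧ F.obj.map a.op s = F.obj.map (a ≫ g).op (φ (e m))}
    let O : ι → T.left.Opens := fun m => ⟨Oset m, by
      refine isOpen_iff_forall_mem_open.2 ?_
      rintro _ ⟨V, a, w, rfl, hs⟩
      haveI := EtFound.etale_left a
      exact ⟨Set.range a.left.base, by rintro _ ⟨w', rfl⟩; exact ⟨V, a, w', rfl, hs⟩,
        (Scheme.Hom.isOpenMap a.left).isOpen_range, ⟨w, rfl⟩⟩⟩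
    have hcov : ⨆ m, O m = ⊤ := by
      refine eq_top_iff.2 fun t _ => ?_
      obtain ⟨Ω, _, _, ξ, z, hz⟩ := point t
      obtain ⟨m₀, hm₀⟩ := (hφ Ω ξ ((Scheme.pointSmallEtale ξ).fiber.map g z)).2
        ((Scheme.pointSmallEtale ξ).toPresheafFiber T z F.obj s)
      obtain ⟨m, rfl⟩ := e.surjective m₀
      obtain ⟨V, a, w, hw, hs⟩ := exists_nhd_of_germ_eq (s := s) (s' := F.obj.map g.op (φ (e m))) t ξ z hz
        (hm₀.symm.trans ((ConcreteCategory.comp_apply _ _ _).trans
          ((Scheme.pointSmallEtale ξ).toPresheafFiber_w_apply g z F.obj _).symm))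
      refine TopologicalSpace.Opens.mem_iSup.2 ⟨m, V, a, w, hw, hs.trans ?_⟩
      rw [← Functor.map_comp_apply, ← op_comp]
    have hdisj : ∀ m m', m ≠ m' → ∀ t, t ∈ O m → t ∈ O m' → False := by
      rintro m m' hne t ⟨V, a, w, rfl, hs⟩ ⟨V', a', w', hw', hs'⟩
      obtain ⟨Ω, _, _, ξ, z, hz⟩ := point (a.left.base w)
      exact hne (e.injective ((hφ Ω ξ _).1 ((germ s m a w hs Ω ξ z hz).symm.trans
        (germ s m' a' w' hs' Ω ξ z (hz.trans hw'.symm)))))
    let 𝒰 : T.left.OpenCover := T.left.openCoverOfIsOpenCover O hcov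
    let vl : T.left ⟶ P.left := 𝒰.glueMorphisms
      (fun m => (O m).ι ≫ g.left ≫ Sigma.ι (fun _ : ι => U.left) m) fun m m' => by
        by_cases hne : m = m'
        · subst hne
          have : pullback.fst (O m).ι (O m).ι = pullback.snd (O m).ι (O m).ι :=
            (cancel_mono (O m).ι).1 pullback.condition
          exact congrArg (· ≫ _) this
        · haveI : IsEmpty ↥(pullback (𝒰.f m) (𝒰.f m') : Scheme.{u}) := ⟨fun z => hdisj m m' hne
            ((O m).ι.base ((pullback.fst (O m).ι (O m').ι).base z)) ((pullback.fst (O m).ι (O m').ι).base z).2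
            (by
              rw [← Scheme.Hom.comp_apply, pullback.condition, Scheme.Hom.comp_apply]
              exact ((pullback.snd (O m).ι (O m').ι).base z).2)⟩
          exact isInitialOfIsEmpty.hom_ext _ _
    have hvl : ∀ m, (O m).ι ≫ vl = (O m).ι ≫ g.left ≫ Sigma.ι (fun _ : ι => U.left) m := fun m =>
      𝒰.ι_glueMorphisms _ _ m
    let v : T ⟶ P := MorphismProperty.Over.homMk vl (Scheme.Cover.hom_ext 𝒰 _ _ fun m => by
      show (O m).ι ≫ vl ≫ P.hom = (O m).ι ≫ T.hom
      rw [reassoc_of% hvl m]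
      exact congrArg (fun k => (O m).ι ≫ k) ((congrArg (g.left ≫ ·) (Sigma.ι_desc _ m)).trans
        (MorphismProperty.Over.w g))) trivial
    have hvg : v ≫ h = g := MorphismProperty.Over.Hom.ext (Scheme.Cover.hom_ext 𝒰 _ _ fun m => by
      show (O m).ι ≫ vl ≫ h.left = (O m).ι ≫ g.left
      rw [reassoc_of% hvl m]
      exact congrArg (fun k => (O m).ι ≫ k) ((congrArg (g.left ≫ ·) (Sigma.ι_desc _ m)).trans
        (Category.comp_id _)))
    refine ⟨⟨v, hvg⟩, ?_⟩
    show F.obj.map v.op σ = s
    refine sections_ext (fun m => EtFound.restrictEtale T (O m)) (fun m => EtFound.restrictEtaleHom T (O m))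
      (fun t => ?_) fun m => ?_
    · obtain ⟨m, hm⟩ := TopologicalSpace.Opens.mem_iSup.1 (hcov.ge (TopologicalSpace.Opens.mem_top t))
      exact ⟨m, ⟨t, hm⟩, rfl⟩
    · rw [pull v _ m (MorphismProperty.Over.Hom.ext (hvl m))]
      have wit : ∀ o : (O m).toScheme, ∃ (V : X.Etale) (a : V ⟶ EtFound.restrictEtale T (O m)) (w : V.left),
          a.left.base w = o ∧ F.obj.map (a ≫ EtFound.restrictEtaleHom T (O m)).op s =
            F.obj.map ((a ≫ EtFound.restrictEtaleHom T (O m)) ≫ g).op (φ (e m)) := by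
        rintro ⟨t, V, a, w, rfl, hs⟩
        have hr : Set.range a.left.base ⊆ Set.range (O m).ι.base := by
          rw [Scheme.Opens.range_ι]
          rintro _ ⟨w', rfl⟩
          exact ⟨V, a, w', rfl, hs⟩
        have hl := IsOpenImmersion.lift_fac (O m).ι a.left hr
        let a' : V ⟶ EtFound.restrictEtale T (O m) := MorphismProperty.Over.homMk
          (IsOpenImmersion.lift (O m).ι a.left hr) (by
            show IsOpenImmersion.lift (O m).ι a.left hr ≫ (O m).ι ≫ T.hom = V.hom
            rw [reassoc_of% hl]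
            exact MorphismProperty.Over.w a) trivial
        have ha' : a' ≫ EtFound.restrictEtaleHom T (O m) = a := MorphismProperty.Over.Hom.ext hl
        refine ⟨V, a', w, (O m).ι.isOpenEmbedding.injective
          ((Scheme.Hom.comp_apply _ _ _).symm.trans (congrArg (fun k : V.left ⟶ T.left => k.base w) hl)), ?_⟩
        rw [ha']
        exact hs
      choose V a w hw hs using wit
      refine (sections_ext V a (fun o => ⟨o, w o, hw o⟩) fun o => ?_).symm
      rw [← Functor.map_comp_apply, ← op_comp, hs o, ← Functor.map_comp_apply, ← op_comp, Category.assoc]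

end Groth.Agent.FLCSet
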