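import Groth.Agent.FLCSet.Chart
import Groth.Agent.EtFound.Descent
import Groth.Agent.DescLib.DescFinite
import Groth.Agent.EtFound.PushOutside
import Groth.Agent.S7482

/-! finite locally constant sheaves of sets are represented by finite étale schemes -/

set_option autoImplicit false

universe u

open CategoryTheory CategoryTheory.Limits AlgebraicGeometry Opposite TopologicalSpace

namespace Groth.Agent.FLCSet

set_option backward.isDefEq.respectTransparency false
set_option backward.isDefEq.respectTransparency.types false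

variable {X : Scheme.{u}}

/-- A small affine trivialisation with its representing scheme. -/
structure Chart (F : EtDesc.Sh X) (x : X) where
  U : X.Etale
  pt : U.left
  pt_eq : U.hom.base pt = x
  affine : IsAffine U.left
  small : ∃ W : X.Opens, IsAffineOpen W ∧ ∀ t : U.left, U.hom.base t ∈ W
  P : X.Etale
  h : P ⟶ U
  sec : F.obj.obj (op P)
  finite : IsFinite h.left
  bij : ∀ (T : X.Etale) (g : T ⟶ U),
    Function.Bijective fun v : {v : T ⟶ P // v ≫ h = g} => F.obj.map v.1.op sec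

variable {F : EtDesc.Sh X}

theorem exists_small_chart (hF : CohProp.IsFinLocConstSet F) (x : X) : Nonempty (Chart F x) := by
  obtain ⟨ι, U, hU, hM⟩ := hF
  obtain ⟨i, p, hp⟩ := hU x
  obtain ⟨M, hfin, ⟨e⟩⟩ := hM i
  obtain ⟨φ, hφ⟩ := exists_constBy e
  obtain ⟨W, hW, hxW, -⟩ := exists_isAffineOpen_mem_and_subset (x := x) (U := (⊤ : X.Opens)) trivial
  obtain ⟨A, hA, hpA, hAW⟩ := exists_isAffineOpen_mem_and_subset (x := p) (U := (U i).hom ⁻¹ᵁ W)
    (show (U i).hom.base p ∈ W by rw [hp]; exact hxW)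
  haveI := hfin
  obtain ⟨P, h, σ, hfinite, hbij⟩ := exists_chart (hφ.restrict (EtFound.restrictEtaleHom (U i) A))
  exact ⟨⟨EtFound.restrictEtale (U i) A, ⟨p, hpA⟩, hp, hA, ⟨W, hW, fun t => by
    show (A.ι ≫ (U i).hom).base t ∈ W
    rw [Scheme.Hom.comp_apply]
    exact hAW t.2⟩, P, h, σ, hfinite, hbij⟩⟩

variable (C : ∀ x : X, Chart F x)

theorem unique (i : X) {T : X.Etale} (a b : T ⟶ (C i).P) (h₁ : a ≫ (C i).h = b ≫ (C i).h)
    (h₂ : F.obj.map a.op (C i).sec = F.obj.map b.op (C i).sec) : a = b :=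
  congrArg Subtype.val (((C i).bij T (b ≫ (C i).h)).1 (a₁ := ⟨a, h₁⟩) (a₂ := ⟨b, rfl⟩) h₂)

theorem exists_trans (i j : X) : ∃ θ : fibProd (C i).P (C j).U ⟶ (C j).P,
    θ ≫ (C j).h = fibSnd (C i).P (C j).U ∧
      F.obj.map θ.op (C j).sec = F.obj.map (fibFst (C i).P (C j).U).op (C i).sec := by
  obtain ⟨⟨v, hv⟩, e⟩ := ((C j).bij _ (fibSnd (C i).P (C j).U)).2
    (F.obj.map (fibFst (C i).P (C j).U).op (C i).sec)
  exact ⟨v, hv, e⟩

/-- The transition morphism. -/
noncomputable def trans (i j : X) : fibProd (C i).P (C j).U ⟶ (C j).P := (exists_trans C i j).choose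

theorem trans_h (i j : X) : trans C i j ≫ (C j).h = fibSnd (C i).P (C j).U :=
  (exists_trans C i j).choose_spec.1

theorem trans_sec (i j : X) : F.obj.map (trans C i j).op (C j).sec =
    F.obj.map (fibFst (C i).P (C j).U).op (C i).sec := (exists_trans C i j).choose_spec.2

theorem trans_self (i : X) : fibLift (𝟙 _) (C i).h ≫ trans C i i = 𝟙 _ := by
  refine unique C i _ _ ?_ ?_
  · rw [Category.assoc, trans_h, fibLift_snd, Category.id_comp]
  · rw [op_comp, Functor.map_comp_apply, trans_sec, ← Functor.map_comp_apply, ← op_comp, fibLift_fst]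

theorem trans_trans (i j k : X) :
    fibLift (fibFst (fibProd (C i).P (C j).U) (C k).U ≫ trans C i j)
        (fibSnd (fibProd (C i).P (C j).U) (C k).U) ≫ trans C j k =
      fibLift (fibFst (fibProd (C i).P (C j).U) (C k).U ≫ fibFst (C i).P (C j).U)
        (fibSnd (fibProd (C i).P (C j).U) (C k).U) ≫ trans C i k := by
  refine unique C k _ _ ?_ ?_
  · simp only [Category.assoc, trans_h, fibLift_snd]
  · simp only [op_comp, Functor.map_comp_apply, trans_sec]
    simp only [← Functor.map_comp_apply, ← op_comp, fibLift_fst]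
    simp only [op_comp, Functor.map_comp_apply, trans_sec]

/-- The family of trivialisations. -/
abbrev fam (i : X) : (C i).U.left ⟶ X := (C i).U.hom

/-- The pairing of a lift with a point. -/
noncomputable def pair {T : Scheme.{u}} {i j : X} {x₀ : T ⟶ (C i).U.left} (x₁ : T ⟶ (C j).U.left)
    (hx : x₀ ≫ fam C i = x₁ ≫ fam C j) (v : Desc.Lifts (CategoryTheory.Over.mk (C i).h.left) x₀) :
    T ⟶ (fibProd (C i).P (C j).U).left :=
  pullback.lift v.1 x₁ (by
    have e : v.1 ≫ (C i).h.left = x₀ := v.2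
    exact ((congrArg (v.1 ≫ ·) (MorphismProperty.Over.w (C i).h).symm).trans
      ((Category.assoc _ _ _).symm.trans (congrArg (· ≫ (C i).U.hom) e))).trans hx)

theorem pair_fst {T : Scheme.{u}} {i j : X} {x₀ : T ⟶ (C i).U.left} (x₁ : T ⟶ (C j).U.left)
    (hx : x₀ ≫ fam C i = x₁ ≫ fam C j) (v : Desc.Lifts (CategoryTheory.Over.mk (C i).h.left) x₀) :
    pair C x₁ hx v ≫ (fibFst (C i).P (C j).U).left = v.1 := pullback.lift_fst _ _ _

theorem pair_snd {T : Scheme.{u}} {i j : X} {x₀ : T ⟶ (C i).U.left} (x₁ : T ⟶ (C j).U.left)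
    (hx : x₀ ≫ fam C i = x₁ ≫ fam C j) (v : Desc.Lifts (CategoryTheory.Over.mk (C i).h.left) x₀) :
    pair C x₁ hx v ≫ (fibSnd (C i).P (C j).U).left = x₁ := pullback.lift_snd _ _ _

/-- Transport of a lift. -/
noncomputable def move {T : Scheme.{u}} {i j : X} (x₀ : T ⟶ (C i).U.left) (x₁ : T ⟶ (C j).U.left)
    (hx : x₀ ≫ fam C i = x₁ ≫ fam C j) (v : Desc.Lifts (CategoryTheory.Over.mk (C i).h.left) x₀) :
    Desc.Lifts (CategoryTheory.Over.mk (C j).h.left) x₁ :=
  ⟨pair C x₁ hx v ≫ (trans C i j).left, by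
    show (pair C x₁ hx v ≫ (trans C i j).left) ≫ (C j).h.left = x₁
    rw [Category.assoc]
    exact (congrArg (_ ≫ ·) (congrArg (fun k => k.left) (trans_h C i j))).trans (pair_snd C x₁ hx v)⟩

theorem move_self {T : Scheme.{u}} {i : X} (x : T ⟶ (C i).U.left)
    (v : Desc.Lifts (CategoryTheory.Over.mk (C i).h.left) x) : move C x x rfl v = v := by
  refine Subtype.ext ?_
  show pair C x rfl v ≫ (trans C i i).left = v.1
  have e : pair C x rfl v = v.1 ≫ (fibLift (𝟙 (C i).P) (C i).h).left := by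
    refine pullback.hom_ext ((pair_fst C x rfl v).trans ?_) ((pair_snd C x rfl v).trans ?_)
    · exact (Category.comp_id _).symm.trans
        ((congrArg (v.1 ≫ ·) (pullback.lift_fst _ _ _).symm).trans (Category.assoc _ _ _).symm)
    · exact v.2.symm.trans
        ((congrArg (v.1 ≫ ·) (pullback.lift_snd _ _ _).symm).trans (Category.assoc _ _ _).symm)
  rw [e, Category.assoc]
  exact (congrArg (v.1 ≫ ·) (congrArg (fun k => k.left) (trans_self C i))).trans (Category.comp_id _)

theorem move_move {T : Scheme.{u}} {i j k : X} (x₀ : T ⟶ (C i).U.left) (x₁ : T ⟶ (C j).U.left)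
    (x₂ : T ⟶ (C k).U.left) (h₀₁ : x₀ ≫ fam C i = x₁ ≫ fam C j) (h₁₂ : x₁ ≫ fam C j = x₂ ≫ fam C k)
    (v : Desc.Lifts (CategoryTheory.Over.mk (C i).h.left) x₀) :
    move C x₁ x₂ h₁₂ (move C x₀ x₁ h₀₁ v) = move C x₀ x₂ (h₀₁.trans h₁₂) v := by
  refine Subtype.ext ?_
  let Q := fibProd (C i).P (C j).U
  let ℓ : T ⟶ (fibProd Q (C k).U).left := pullback.lift (pair C x₁ h₀₁ v) x₂ (by
    show pair C x₁ h₀₁ v ≫ Q.hom = x₂ ≫ (C k).U.hom
    rw [← MorphismProperty.Over.w (fibSnd (C i).P (C j).U), ← Category.assoc, pair_snd]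
    exact h₁₂)
  have hf : ℓ ≫ (fibFst Q (C k).U).left = pair C x₁ h₀₁ v := pullback.lift_fst _ _ _
  have hs : ℓ ≫ (fibSnd Q (C k).U).left = x₂ := pullback.lift_snd _ _ _
  have key := congrArg (fun m => ℓ ≫ m.left) (trans_trans C i j k)
  have e1 : ℓ ≫ (fibLift (fibFst Q (C k).U ≫ trans C i j) (fibSnd Q (C k).U)).left =
      pair C x₂ h₁₂ (move C x₀ x₁ h₀₁ v) := by
    refine pullback.hom_ext ?_ ?_
    · refine ((Category.assoc _ _ _).trans (congrArg (ℓ ≫ ·) (pullback.lift_fst _ _ _))).trans ?_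
      refine Eq.trans ?_ (pair_fst C x₂ h₁₂ (move C x₀ x₁ h₀₁ v)).symm
      exact (Category.assoc _ _ _).symm.trans (congrArg (· ≫ (trans C i j).left) hf)
    · refine ((Category.assoc _ _ _).trans (congrArg (ℓ ≫ ·) (pullback.lift_snd _ _ _))).trans ?_
      exact hs.trans (pair_snd C x₂ h₁₂ (move C x₀ x₁ h₀₁ v)).symm
  have e2 : ℓ ≫ (fibLift (fibFst Q (C k).U ≫ fibFst (C i).P (C j).U) (fibSnd Q (C k).U)).left =
      pair C x₂ (h₀₁.trans h₁₂) v := by
    refine pullback.hom_ext ?_ ?_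
    · refine ((Category.assoc _ _ _).trans (congrArg (ℓ ≫ ·) (pullback.lift_fst _ _ _))).trans ?_
      refine Eq.trans ?_ (pair_fst C x₂ (h₀₁.trans h₁₂) v).symm
      exact ((Category.assoc _ _ _).symm.trans (congrArg (· ≫ (fibFst (C i).P (C j).U).left) hf)).trans
        (pair_fst C x₁ h₀₁ v)
    · refine ((Category.assoc _ _ _).trans (congrArg (ℓ ≫ ·) (pullback.lift_snd _ _ _))).trans ?_
      exact hs.trans (pair_snd C x₂ (h₀₁.trans h₁₂) v).symm
  show pair C x₂ h₁₂ (move C x₀ x₁ h₀₁ v) ≫ (trans C j k).left =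
    pair C x₂ (h₀₁.trans h₁₂) v ≫ (trans C i k).left
  rw [← e1, ← e2]
  exact (Category.assoc _ _ _).trans (key.trans (Category.assoc _ _ _).symm)

/-- The descent datum. -/
noncomputable def datum : Desc.SchDDFam (fam C) where
  obj i := CategoryTheory.Over.mk (C i).h.left
  φ _ i j x₀ x₁ hx :=
    { toFun := move C x₀ x₁ hx
      invFun := move C x₁ x₀ hx.symm
      left_inv := fun v => (move_move C x₀ x₁ x₀ hx hx.symm v).trans (move_self C x₀ v)
      right_inv := fun v => (move_move C x₁ x₀ x₁ hx.symm hx v).trans (move_self C x₁ v) }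
  φ_natural T T' g i j x₀ x₁ hx y₀ y₁ hy₀ hy₁ hx' v v' hv' := by
    subst hy₀ hy₁
    show pair C (g ≫ x₁) hx' v' ≫ (trans C i j).left = g ≫ pair C x₁ hx v ≫ (trans C i j).left
    rw [← Category.assoc]
    refine congrArg (· ≫ _) (pullback.hom_ext ?_ ?_)
    · exact (pair_fst C _ hx' v').trans (hv'.trans
        ((congrArg (g ≫ ·) (pair_fst C x₁ hx v).symm).trans (Category.assoc _ _ _).symm))
    · exact (pair_snd C _ hx' v').trans
        ((congrArg (g ≫ ·) (pair_snd C x₁ hx v).symm).trans (Category.assoc _ _ _).symm)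
  φ_self _ i x v := move_self C x v
  φ_comp _ i j k x₀ x₁ x₂ h₀₁ h₁₂ v := move_move C x₀ x₁ x₂ h₀₁ h₁₂ v

variable (Z : CategoryTheory.Over X) (θ : (Desc.toDDFam (fam C)).obj Z ≅ datum C)

/-- A solution compared with a chart. -/
noncomputable def cIso (i : X) : pullback (fam C i) Z.hom ≅ (C i).P.left where
  hom := (θ.hom.hom i).left
  inv := (θ.inv.hom i).left
  hom_inv_id := congrArg (fun k => (k.hom i).left) θ.hom_inv_id
  inv_hom_id := congrArg (fun k => (k.hom i).left) θ.inv_hom_id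

theorem cIso_h (i : X) : (cIso C Z θ i).hom ≫ (C i).h.left = pullback.fst (fam C i) Z.hom :=
  CategoryTheory.Over.w (θ.hom.hom i)

include θ in
theorem finite_etale : IsFinite Z.hom ∧ Etale Z.hom := by
  haveI := fun i => (C i).U.prop
  let O : X → X.Opens := fun i => ⟨Set.range (fam C i).base, (fam C i).isOpenMap.isOpen_range⟩
  have hO : ⨆ i, O i = ⊤ := top_le_iff.mp fun y _ => Opens.mem_iSup.mpr ⟨y, ⟨(C y).pt, (C y).pt_eq⟩⟩
  have key : ∀ i, IsFinite (Z.hom ∣_ O i) ∧ Etale (Z.hom ∣_ O i) := fun i => by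
    obtain ⟨W, hWa, hWr⟩ := (C i).small
    let v' : (C i).U.left ⟶ O i := IsOpenImmersion.lift (O i).ι (fam C i) (by simp [O])
    have hv' : v' ≫ (O i).ι = fam C i := IsOpenImmersion.lift_fac _ _ _
    haveI : Etale v' := MorphismProperty.of_postcomp (W := @Etale) (W' := @Etale) v' (O i).ι inferInstance
      (hv'.symm ▸ (C i).U.prop)
    haveI : Surjective v' := ⟨fun o => by
      obtain ⟨t, ht⟩ := o.2
      exact ⟨t, (O i).ι.isOpenEmbedding.injective
        ((Scheme.Hom.comp_apply _ _ _).symm.trans ((congrArg (fun k => k.base t) hv').trans ht))⟩⟩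
    haveI : IsAffine W := hWa
    haveI : QuasiSeparatedSpace (O i : Scheme.{u}) :=
      quasiSeparatedSpace_of_quasiSeparated (X.homOfLE (show O i ≤ W from fun _ ⟨t, ht⟩ => ht ▸ hWr t))
    haveI : IsAffine (C i).U.left := (C i).affine
    haveI : QuasiCompact v' := quasiCompact_of_compactSpace v'
    have hQ : (@Surjective ⊓ @Flat ⊓ @QuasiCompact : MorphismProperty Scheme.{u}) v' :=
      ⟨⟨inferInstance, inferInstance⟩, inferInstance⟩
    let m : pullback (fam C i) Z.hom ⟶ (Z.hom ⁻¹ᵁ O i : Scheme.{u}) :=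
      IsOpenImmersion.lift (Z.hom ⁻¹ᵁ O i).ι (pullback.snd (fam C i) Z.hom) (by
        rintro _ ⟨t, rfl⟩
        rw [Scheme.Opens.range_ι]
        exact ⟨(pullback.fst (fam C i) Z.hom).base t, (Scheme.Hom.comp_apply _ _ _).symm.trans
          ((congrArg (fun k : pullback (fam C i) Z.hom ⟶ X => k.base t) pullback.condition).trans (Scheme.Hom.comp_apply _ _ _))⟩)
    have hm : m ≫ (Z.hom ⁻¹ᵁ O i).ι = pullback.snd (fam C i) Z.hom := IsOpenImmersion.lift_fac _ _ _
    have sq : IsPullback m (pullback.fst (fam C i) Z.hom) (Z.hom ∣_ O i) v' := by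
      refine IsPullback.of_right ?_ ?_ (isPullback_morphismRestrict Z.hom (O i)).flip
      · rw [hm, hv']
        exact (IsPullback.of_hasPullback _ _).flip
      · rw [← cancel_mono (O i).ι, Category.assoc, morphismRestrict_ι, Category.assoc, hv', ← Category.assoc, hm,
          pullback.condition]
    constructor
    · haveI := EtFound.fpqc_isFinite.{u}
      refine MorphismProperty.of_isPullback_of_descendsAlong (P := @IsFinite)
        (Q := (@Surjective ⊓ @Flat ⊓ @QuasiCompact : MorphismProperty Scheme.{u})) sq.flip hQ ?_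
      rw [← cIso_h C Z θ i]
      exact (MorphismProperty.cancel_left_of_respectsIso (P := @IsFinite) _ _).mpr (C i).finite
    · refine MorphismProperty.of_isPullback_of_descendsAlong (P := @Etale)
        (Q := (@Surjective ⊓ @Flat ⊓ @QuasiCompact : MorphismProperty Scheme.{u})) sq.flip hQ ?_
      rw [← cIso_h C Z θ i]
      exact (MorphismProperty.cancel_left_of_respectsIso (P := @Etale) _ _).mpr (EtFound.etale_left (C i).h)
  exact ⟨(IsZariskiLocalAtTarget.iff_of_iSup_eq_top (P := @IsFinite) O hO).mpr fun y => (key y).1,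
    (IsZariskiLocalAtTarget.iff_of_iSup_eq_top (P := @Etale) O hO).mpr fun y => (key y).2⟩

include θ in
theorem nonempty_iso (hZ : Etale Z.hom) : Nonempty (F ≅ EtDesc.repSh (Scheme.Etale.mk Z.hom)) := by
  let Zo : X.Etale := Scheme.Etale.mk Z.hom
  let R : ∀ i, X.Etale := fun i => fibProd (C i).U Zo
  let c : ∀ i, R i ⟶ (C i).P := fun i => MorphismProperty.Over.homMk (cIso C Z θ i).hom (by
    show (cIso C Z θ i).hom ≫ (C i).P.hom = pullback.fst (fam C i) Z.hom ≫ (C i).U.hom
    rw [← MorphismProperty.Over.w (C i).h, ← Category.assoc]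
    exact congrArg (· ≫ _) (cIso_h C Z θ i)) trivial
  have hch : ∀ i, c i ≫ (C i).h = fibFst (C i).U Zo := fun i =>
    MorphismProperty.Over.Hom.ext (cIso_h C Z θ i)
  let c' : ∀ i, (C i).P ⟶ R i := fun i => MorphismProperty.Over.homMk (cIso C Z θ i).inv (by
    rw [← cancel_epi (cIso C Z θ i).hom, Iso.hom_inv_id_assoc]
    exact (MorphismProperty.Over.w (c i)).symm) trivial
  have hcc' : ∀ i, c i ≫ c' i = 𝟙 _ := fun i => MorphismProperty.Over.Hom.ext (cIso C Z θ i).hom_inv_id
  have hc'c : ∀ i, c' i ≫ c i = 𝟙 _ := fun i => MorphismProperty.Over.Hom.ext (cIso C Z θ i).inv_hom_id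
  obtain ⟨σ, hσ⟩ : ∃ σ : F.obj.obj (op Zo),
      ∀ i, F.obj.map (fibSnd (C i).U Zo).op σ = F.obj.map (c i).op (C i).sec := by
    refine sections_glue R (fun i => fibSnd (C i).U Zo) (fun z => ?_) _ fun i j V a b hab => ?_
    · obtain ⟨t, -, ht⟩ := Scheme.Pullback.exists_preimage_pullback (f := fam C (Z.hom.base z)) (g := Z.hom)
        (C (Z.hom.base z)).pt z (C (Z.hom.base z)).pt_eq
      exact ⟨_, t, ht⟩
    · let x₀ : V.left ⟶ (C i).U.left := (a ≫ fibFst (C i).U Zo).left
      let x₁ : V.left ⟶ (C j).U.left := (b ≫ fibFst (C j).U Zo).left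
      have hx : x₀ ≫ fam C i = x₁ ≫ fam C j :=
        (MorphismProperty.Over.w (a ≫ fibFst (C i).U Zo)).trans
          (MorphismProperty.Over.w (b ≫ fibFst (C j).U Zo)).symm
      let v : Desc.Lifts (CategoryTheory.Over.mk (pullback.fst (fam C i) Z.hom)) x₀ := ⟨a.left, rfl⟩
      let w : Desc.Lifts (CategoryTheory.Over.mk (C i).h.left) x₀ := ⟨(a ≫ c i).left, by
        show (a.left ≫ (c i).left) ≫ (C i).h.left = a.left ≫ pullback.fst (fam C i) Z.hom
        rw [Category.assoc]
        exact congrArg (a.left ≫ ·) (cIso_h C Z θ i)⟩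
      have hcomm := θ.hom.comm x₀ x₁ hx v w rfl
      have hb : (((Desc.toDDFam (fam C)).obj Z).φ x₀ x₁ hx v).1 = b.left := by
        refine pullback.hom_ext (pullback.lift_fst _ _ _) ?_
        exact (pullback.lift_snd _ _ _).trans (congrArg (fun k => k.left) hab)
      have key : b ≫ c j = fibLift (a ≫ c i) (b ≫ fibFst (C j).U Zo) ≫ trans C i j := by
        refine MorphismProperty.Over.Hom.ext ?_
        refine Eq.trans ?_ hcomm.symm
        exact congrArg (· ≫ (θ.hom.hom j).left) hb.symm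
      rw [← Functor.map_comp_apply, ← op_comp, ← Functor.map_comp_apply, ← op_comp, key, op_comp (g := trans C i j),
        Functor.map_comp_apply, trans_sec, ← Functor.map_comp_apply, ← op_comp, fibLift_fst]
  let P : X.Etaleᵒᵖ ⥤ Type (u + 1) := yoneda.obj Zo ⋙ uliftFunctor.{u + 1, u}
  let η : P ⟶ F.obj :=
    { app := fun T => ↾fun v => F.obj.map v.down.op σ
      naturality := fun T T' g => by
        ext v
        show F.obj.map (g.unop ≫ v.down).op σ = F.obj.map g (F.obj.map v.down.op σ)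
        rw [op_comp, Functor.map_comp_apply]
        rfl }
  have hcovT : ∀ (T : X.Etale) (t : T.left), ∃ (i : X) (r : (fibProd T (C i).U).left),
      (fibFst T (C i).U).left.base r = t := fun T t => by
    obtain ⟨r, hr, -⟩ := Scheme.Pullback.exists_preimage_pullback (f := T.hom)
      (g := fam C (T.hom.base t)) t (C (T.hom.base t)).pt (C (T.hom.base t)).pt_eq.symm
    exact ⟨_, r, hr⟩
  have hη : ∀ (i : X) {T : X.Etale} (w : T ⟶ R i),
      F.obj.map (w ≫ fibSnd (C i).U Zo).op σ = F.obj.map (w ≫ c i).op (C i).sec := fun i T w => by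
    rw [op_comp, Functor.map_comp_apply, hσ, ← Functor.map_comp_apply, ← op_comp]
  have hi : Presheaf.IsLocallyInjective X.smallEtaleTopology η := ⟨fun {T} v v' e => by
    rw [EtFound.mem_topology_iff]
    intro t
    obtain ⟨i, r, hr⟩ := hcovT T.unop t
    refine ⟨_, fibFst T.unop (C i).U, r, ?_, hr⟩
    show P.map (fibFst T.unop (C i).U).op v = P.map (fibFst T.unop (C i).U).op v'
    refine congrArg ULift.up ?_
    show fibFst T.unop (C i).U ≫ v.down = fibFst T.unop (C i).U ≫ v'.down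
    let g := fibSnd T.unop (C i).U
    let w := fibLift g (fibFst T.unop (C i).U ≫ v.down)
    let w' := fibLift g (fibFst T.unop (C i).U ≫ v'.down)
    have h1 : w ≫ c i = w' ≫ c i := by
      refine unique C i _ _ (by simp only [Category.assoc, hch, w, w', fibLift_fst]) ?_
      rw [← hη, ← hη]
      simp only [w, w', fibLift_snd, op_comp, Functor.map_comp_apply]
      exact congrArg _ e
    have h2 : w = w' :=
      ((Category.comp_id w).symm.trans ((congrArg (w ≫ ·) (hcc' i)).symm.trans (Category.assoc _ _ _).symm)).trans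
        ((congrArg (· ≫ c' i) h1).trans
          ((Category.assoc _ _ _).trans ((congrArg (w' ≫ ·) (hcc' i)).trans (Category.comp_id w'))))
    simpa only [w, w', fibLift_snd] using congrArg (· ≫ fibSnd (C i).U Zo) h2⟩
  have hs : Presheaf.IsLocallySurjective X.smallEtaleTopology η := ⟨fun {T} s => by
    rw [EtFound.mem_topology_iff]
    intro t
    obtain ⟨i, r, hr⟩ := hcovT T t
    refine ⟨_, fibFst T (C i).U, r, ?_, hr⟩
    obtain ⟨⟨u, hu⟩, e⟩ := ((C i).bij _ (fibSnd T (C i).U)).2 (F.obj.map (fibFst T (C i).U).op s)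
    refine ⟨⟨u ≫ c' i ≫ fibSnd (C i).U Zo⟩, ?_⟩
    show F.obj.map (u ≫ c' i ≫ fibSnd (C i).U Zo).op σ = F.obj.map (fibFst T (C i).U).op s
    rw [← Category.assoc, hη, Category.assoc, hc'c, Category.comp_id]
    exact e⟩
  let J := X.smallEtaleTopology
  have : IsIso ((presheafToSheaf J _).map η) := by
    have hW : J.W η := (J.W_iff_isLocallyBijective η).2 ⟨hi, hs⟩
    rwa [J.W_iff] at hW
  exact ⟨(sheafificationIso F) ≪≫ (asIso ((presheafToSheaf J _).map η)).symm⟩

/-- Finite locally constant sheaves of sets are represented by finite étale schemes. -/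
theorem exists_finite_repSh_iso (hF : CohProp.IsFinLocConstSet F) :
    ∃ (U : X.Etale) (_ : IsFinite U.hom), Nonempty (F ≅ EtDesc.repSh U) := by
  have C := fun x => (exists_small_chart hF x).some
  let C' : ∀ x, Chart F x := fun x => (C x)
  haveI : ∀ i, IsFinite ((datum C').obj i).hom := fun i => (C' i).finite
  obtain ⟨Z, ⟨θ⟩⟩ := Groth.Agent.S7482.result (fam C')
    (by
      refine Scheme.fppfPrecoverage_le_fpqcPrecoverage _ ?_
      rw [Scheme.fppfPrecoverage, Scheme.ofArrows_mem_precoverage_iff]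
      exact ⟨fun s => ⟨s, (C' s).pt, (C' s).pt_eq⟩, fun i => by
        haveI : Etale (fam C' i) := (C' i).U.prop
        exact ⟨inferInstance, inferInstance⟩⟩)
    (datum C') (fun i => DescLib.indQA_of_isAffineHom _)
  obtain ⟨hfin, het⟩ := finite_etale C' Z θ
  exact ⟨Scheme.Etale.mk Z.hom, hfin, nonempty_iso C' Z θ het⟩

end Groth.Agent.FLCSet
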