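import Groth.Agent.FLCSet.Basic
import Groth.Agent.EtFound.FiniteSplit
import Groth.Agent.EtFound.TopInv
import Groth.Agent.EtFound.Germ

/-! the sheaf of a finite étale scheme is finite locally constant -/

set_option autoImplicit false

universe u

open CategoryTheory CategoryTheory.Limits AlgebraicGeometry Opposite

namespace Groth.Agent.FLCSet

set_option backward.isDefEq.respectTransparency false
set_option backward.isDefEq.respectTransparency.types false

variable {X S : Scheme.{u}}

/-- Near every point, a finite étale morphism is a disjoint union of sections. -/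
theorem exists_split (f : X ⟶ S) [Etale f] [IsFinite f] (x : S) :
    ∃ (U : S.Etale) (p : U.left) (ι : Type u) (_ : Finite ι) (Q : ι → (pullback U.hom f).Opens)
      (s : ι → (U ⟶ Scheme.Etale.mk f)),
      U.hom.base p = x ∧ Pairwise (fun a b => Disjoint (Q a) (Q b)) ∧ (⨆ a, Q a) = ⊤ ∧
      (∀ a, Mono ((Q a).ι ≫ pullback.fst U.hom f)) ∧
      ∀ a, Set.range (pullback.lift (𝟙 U.left) (s a).left ((Category.id_comp _).trans
        (MorphismProperty.Over.w (s a)).symm)).base ⊆ (Q a : Set ↥(pullback U.hom f)) := by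
  let Ω := AlgebraicClosure (S.residueField x)
  let η : Spec (CommRingCat.of Ω) ⟶ S :=
    Spec.map (CommRingCat.ofHom (algebraMap (S.residueField x) Ω)) ≫ S.fromSpecResidueField x
  have hη : η.base (default : Spec (CommRingCat.of Ω)) = x :=
    (Scheme.Hom.comp_apply _ _ _).trans (Scheme.fromSpecResidueField_apply x _)
  obtain ⟨W, w, Q, hd, hc, hm, hci⟩ := EtFound.exists_closedImmersion_stage f η
  haveI := EtFound.finite_points f η
  haveI : Etale W.hom := W.prop
  let h : ∀ a, (Q a).toScheme ⟶ W.left := fun a => (Q a).ι ≫ pullback.fst W.hom f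
  have hoi : ∀ a, IsOpenImmersion (h a) := fun a => by
    haveI : IsClosedImmersion (h a) := hci a
    haveI : Etale (pullback.fst W.hom f) := MorphismProperty.pullback_fst (P := @Etale) _ _ ‹_›
    haveI : Etale (h a) := inferInstanceAs (Etale ((Q a).ι ≫ pullback.fst W.hom f))
    exact EtFound.isOpenImmersion_of_etale_univInj (h a)
  let w₀ : W.left := (w.left : Spec (CommRingCat.of Ω) ⟶ W.left).base (default : Spec (CommRingCat.of Ω))
  let G : W.left.Opens := ⟨⋂ a, Set.range (h a).base,
    isOpen_iInter_of_finite fun a => (hoi a).1.isOpen_range⟩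
  have hw₀ : w₀ ∈ G := Set.mem_iInter.2 fun a => by
    refine ⟨⟨_, hm a⟩, ?_⟩
    show (h a).base _ = _
    rw [Scheme.Hom.comp_apply]
    show (pullback.fst W.hom f).base
      ((((EtFound.liftPt f a.2 w).left : Spec (CommRingCat.of Ω) ⟶ pullback W.hom f)).base (default : Spec (CommRingCat.of Ω))) = w₀
    exact (Scheme.Hom.comp_apply _ _ _).symm.trans
      (congrArg (fun k : Spec (CommRingCat.of Ω) ⟶ W.left => k.base (default : Spec (CommRingCat.of Ω)))
        (EtFound.liftPt_fst f a.2 w))
  let U : S.Etale := EtFound.restrictEtale W G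
  let d : pullback U.hom f ⟶ pullback W.hom f :=
    pullback.lift (pullback.fst U.hom f ≫ G.ι) (pullback.snd U.hom f)
      ((Category.assoc _ _ _).trans pullback.condition)
  have hd₁ : d ≫ pullback.fst W.hom f = pullback.fst U.hom f ≫ G.ι := pullback.lift_fst _ _ _
  have hd₂ : d ≫ pullback.snd W.hom f = pullback.snd U.hom f := pullback.lift_snd _ _ _
  have hsub : ∀ a, Set.range G.ι.base ⊆ Set.range (h a).base := fun a => by
    rw [G.range_ι]; exact Set.iInter_subset _ a
  let l : ∀ a, G.toScheme ⟶ (Q a).toScheme := fun a =>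
    haveI := hoi a
    IsOpenImmersion.lift (h a) G.ι (hsub a)
  have hl : ∀ a, l a ≫ h a = G.ι := fun a =>
    haveI := hoi a
    IsOpenImmersion.lift_fac _ _ _
  let sl : ∀ a, U.left ⟶ X := fun a => l a ≫ (Q a).ι ≫ pullback.snd W.hom f
  have hsl : ∀ a, sl a ≫ f = U.hom := fun a => by
    show (l a ≫ (Q a).ι ≫ pullback.snd W.hom f) ≫ f = G.ι ≫ W.hom
    rw [← hl a]
    simp only [h, Category.assoc, pullback.condition]
  refine ⟨U, ⟨w₀, hw₀⟩, _, inferInstance, fun a => d ⁻¹ᵁ Q a,
    fun a => MorphismProperty.Over.homMk (sl a) (hsl a), ?_, ?_, ?_, ?_, ?_⟩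
  · show (G.ι ≫ W.hom).base _ = x
    rw [Scheme.Hom.comp_apply, ← hη]
    show W.hom.base w₀ = _
    exact (Scheme.Hom.comp_apply _ _ _).symm.trans
      (congrArg (fun k : Spec (CommRingCat.of Ω) ⟶ S => k.base (default : Spec (CommRingCat.of Ω))) (CategoryTheory.Over.w w))
  · intro a b hab
    show Disjoint _ _
    rw [disjoint_iff]
    exact (Scheme.Hom.preimage_inf _).symm.trans
      ((congrArg (d ⁻¹ᵁ ·) (disjoint_iff.1 (hd hab))).trans rfl)
  · refine eq_top_iff.2 fun z _ => ?_
    obtain ⟨a, ha⟩ := TopologicalSpace.Opens.mem_iSup.1 (hc.ge (TopologicalSpace.Opens.mem_top (d.base z)))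
    exact TopologicalSpace.Opens.mem_iSup.2 ⟨a, ha⟩
  · intro a
    refine ⟨fun {T} p q hpq => ?_⟩
    haveI := hoi a
    have h2 : ∀ p : T ⟶ (d ⁻¹ᵁ Q a).toScheme, (d.resLE (Q a) (d ⁻¹ᵁ Q a) le_rfl) ≫ h a =
        (d ⁻¹ᵁ Q a).ι ≫ pullback.fst U.hom f ≫ G.ι := fun p => by
      simp only [h, Scheme.Hom.resLE_comp_ι_assoc, hd₁]
    have e1 : p ≫ d.resLE (Q a) (d ⁻¹ᵁ Q a) le_rfl = q ≫ d.resLE (Q a) (d ⁻¹ᵁ Q a) le_rfl := by
      rw [← cancel_mono (h a), Category.assoc, Category.assoc, h2 p]
      simpa only [Category.assoc] using congrArg (· ≫ G.ι) hpq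
    rw [← cancel_mono (d ⁻¹ᵁ Q a).ι]
    refine pullback.hom_ext (by simpa only [Category.assoc] using hpq) ?_
    rw [← hd₂]
    have e2 := congrArg (· ≫ (Q a).ι ≫ pullback.snd W.hom f) e1
    simpa only [Category.assoc, Scheme.Hom.resLE_comp_ι_assoc] using e2
  · intro a
    rintro _ ⟨z, rfl⟩
    show d.base ((pullback.lift (𝟙 U.left) (sl a) _).base z) ∈ Q a
    rw [← Scheme.Hom.comp_apply]
    have e : pullback.lift (𝟙 U.left) (sl a) ((Category.id_comp _).trans (hsl a).symm) ≫ d =
        l a ≫ (Q a).ι := by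
      refine pullback.hom_ext ?_ ?_
      · rw [Category.assoc, hd₁, pullback.lift_fst_assoc, Category.id_comp, Category.assoc]
        exact (hl a).symm
      · rw [Category.assoc, hd₂, pullback.lift_snd, Category.assoc]
    rw [e, Scheme.Hom.comp_apply]
    exact ((l a).base z).2

/-- The sheaf of a finite étale scheme is finite locally constant. -/
theorem isFinLocConstSet_repSh (f : X ⟶ S) [Etale f] [IsFinite f] :
    CohProp.IsFinLocConstSet (EtDesc.repSh (Scheme.Etale.mk f)) := by
  choose U p ι hι Q s hp hQd hQc hQm hs using exists_split f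
  refine ⟨S, U, fun x => ⟨x, p x, hp x⟩, fun x => ?_⟩
  haveI := hι x
  refine ⟨ULift.{u + 1} (ι x), inferInstance, ?_⟩
  let E : S.Etale := Scheme.Etale.mk f
  let P : S.Etaleᵒᵖ ⥤ Type (u + 1) := yoneda.obj E ⋙ uliftFunctor.{u + 1, u}
  let φ₀ : ULift.{u + 1} (ι x) ⟶ P.obj (op (U x)) := ↾fun m => ⟨s x m.down⟩
  refine nonempty_over_iso (φ := φ₀ ≫ (toSheafify S.smallEtaleTopology P).app (op (U x)))
    fun Ω _ _ ξ z => ?_
  let Φ := Scheme.pointSmallEtale ξ
  have hbij : Function.Bijective fun m : ULift.{u + 1} (ι x) =>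
      Φ.toPresheafFiber (U x) z P ⟨s x m.down⟩ := by
    constructor
    · rintro ⟨a⟩ ⟨b⟩ hab
      obtain ⟨V, g, v, hv, hg⟩ := (Φ.toPresheafFiber_eq_iff' (U x) z _ _).1 hab
      have hg' : g ≫ s x a = g ≫ s x b := congrArg ULift.down hg
      let y : V.left := (v.left : Spec (CommRingCat.of Ω) ⟶ V.left).base (default : Spec (CommRingCat.of Ω))
      have mem : ∀ c, (pullback.lift g.left (g ≫ s x c).left
          ((MorphismProperty.Over.w g).trans (MorphismProperty.Over.w (g ≫ s x c)).symm) :
            V.left ⟶ pullback (U x).hom f).base y ∈ Q x c := fun c => by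
        have e : (pullback.lift g.left (g ≫ s x c).left
          ((MorphismProperty.Over.w g).trans (MorphismProperty.Over.w (g ≫ s x c)).symm) :
            V.left ⟶ pullback (U x).hom f) = g.left ≫ pullback.lift (𝟙 (U x).left) (s x c).left
            ((Category.id_comp _).trans (MorphismProperty.Over.w (s x c)).symm) := by
          refine pullback.hom_ext ?_ ?_
          · exact (pullback.lift_fst _ _ _).trans ((Category.comp_id _).symm.trans
              ((congrArg (g.left ≫ ·) (pullback.lift_fst _ _ _).symm).trans (Category.assoc _ _ _).symm))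
          · exact (pullback.lift_snd _ _ _).trans
              ((congrArg (g.left ≫ ·) (pullback.lift_snd _ _ _).symm).trans (Category.assoc _ _ _).symm)
        rw [e, Scheme.Hom.comp_apply]
        exact hs x c ⟨_, rfl⟩
      by_contra hne
      have h1 := mem a
      have h2 := mem b
      simp only [hg'] at h1
      exact Set.disjoint_left.1 (TopologicalSpace.Opens.coe_disjoint.2
        (hQd x (fun e => hne (congrArg ULift.up e)))) h1 h2
    · intro q
      obtain ⟨V, v, ⟨k⟩, rfl⟩ := Φ.toPresheafFiber_jointly_surjective (P := P) q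
      obtain ⟨⟨T, t⟩, ⟨a₀, ha₀⟩, ⟨b₀, hb₀⟩, -⟩ := IsCofilteredOrEmpty.cone_objs
        (Φ.fiber.elementsMk V v) (Φ.fiber.elementsMk (U x) z)
      obtain ⟨a, ha⟩ : ∃ a : T ⟶ V, Φ.fiber.map a t = v := ⟨a₀, ha₀⟩
      obtain ⟨b, hb⟩ : ∃ b : T ⟶ U x, Φ.fiber.map b t = z := ⟨b₀, hb₀⟩
      let χ : T.left ⟶ pullback (U x).hom f := pullback.lift b.left (a ≫ k).left
        ((MorphismProperty.Over.w b).trans (MorphismProperty.Over.w (a ≫ k)).symm)
      let y : T.left := (t.left : Spec (CommRingCat.of Ω) ⟶ T.left).base (default : Spec (CommRingCat.of Ω))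
      obtain ⟨c, hc⟩ := TopologicalSpace.Opens.mem_iSup.1
        ((hQc x).ge (TopologicalSpace.Opens.mem_top (χ.base y)))
      let O : T.left.Opens := χ ⁻¹ᵁ Q x c
      let g : EtFound.restrictEtale T O ⟶ T := EtFound.restrictEtaleHom T O
      obtain ⟨t', ht', -⟩ := EtFound.exists_lift_point g t ⟨y, hc⟩ rfl
      let σ := pullback.lift (𝟙 (U x).left) (s x c).left
        ((Category.id_comp _).trans (MorphismProperty.Over.w (s x c)).symm)
      let σ' : (U x).left ⟶ (Q x c).toScheme := IsOpenImmersion.lift (Q x c).ι σ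
        (by rw [Scheme.Opens.range_ι]; exact hs x c)
      have key : g ≫ a ≫ k = g ≫ b ≫ s x c := by
        refine MorphismProperty.Over.Hom.ext ?_
        show O.ι ≫ (a ≫ k).left = O.ι ≫ b.left ≫ (s x c).left
        haveI := hQm x c
        have e : χ.resLE (Q x c) O le_rfl = O.ι ≫ b.left ≫ σ' := by
          rw [← cancel_mono ((Q x c).ι ≫ pullback.fst (U x).hom f)]
          simp only [Scheme.Hom.resLE_comp_ι_assoc, Category.assoc, σ', IsOpenImmersion.lift_fac_assoc,
            σ, χ, pullback.lift_fst]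
          exact (congrArg (fun k => O.ι ≫ k) (Category.comp_id b.left)).symm.trans
            (congrArg (fun k => O.ι ≫ b.left ≫ k) (pullback.lift_fst _ _ _).symm)
        have e2 := congrArg (· ≫ (Q x c).ι ≫ pullback.snd (U x).hom f) e
        simp only [Scheme.Hom.resLE_comp_ι_assoc, Category.assoc, σ', IsOpenImmersion.lift_fac_assoc,
          σ, χ, pullback.lift_snd] at e2
        exact e2.trans (congrArg (fun k => O.ι ≫ b.left ≫ k) (pullback.lift_snd _ _ _))
      refine ⟨⟨c⟩, ?_⟩
      show Φ.toPresheafFiber (U x) z P ⟨s x c⟩ = Φ.toPresheafFiber V v P ⟨k⟩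
      rw [← hb, ← ha, ← Φ.toPresheafFiber_w_apply b t, ← Φ.toPresheafFiber_w_apply a t, ← ht',
        ← Φ.toPresheafFiber_w_apply g t', ← Φ.toPresheafFiber_w_apply g t']
      exact congrArg (fun k => Φ.toPresheafFiber _ t' P ⟨k⟩) key.symm
  have : IsIso (Φ.presheafFiber.map (toSheafify S.smallEtaleTopology P)) :=
    Φ.W_isInvertedBy_presheafFiber' _ (GrothendieckTopology.W_toSheafify _ _)
  have h2 := ((ConcreteCategory.isIso_iff_bijective _).1 this).comp hbij
  convert h2 using 1
  funext m
  exact (Φ.toPresheafFiber_naturality_apply (toSheafify S.smallEtaleTopology P) (U x) z ⟨s x m.down⟩).symm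

end Groth.Agent.FLCSet
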